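import Cfsg.Agent.Lib.RankOneIdent.Layer
import Cfsg.Agent.Lib.RankOne.Nilpotent
import Cfsg.Agent.Lib.FTDeps.RankOneCore
import Cfsg.Agent.Lib.OddOrder.FeitThompson
import Cfsg.Agent.Lib.Suzuki2.FieldModel
import Cfsg.Agent.Lib.Zassenhaus.Moebius
import Cfsg.Agent.Lib.BenderSuzuki.Interface

/-!
# Suzuki's theorem, the linear case: a regular normal subgroup of involutions gives `PSL₂(q)`
-/

set_option autoImplicit false
set_option linter.unusedSectionVars false
set_option linter.style.haveILetI false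

namespace Cfsg.Agent.Lib.RankOneIdent

open Cfsg.Agent.Lib.RankOne.Involution Cfsg.Agent.Lib.RankOne.Basic MulAction
open Cfsg.Agent.Lib.BenderSuzuki
open scoped OnePoint

universe u v

section PSL

open Matrix

variable {F : Type} [Field F] [Fintype F] [DecidableEq F]

/-- The translations and the inversion. -/
def pslGens (F : Type) [Field F] : Set (ProjectiveSpecialLinearGroup (Fin 2) F) :=
  Set.range (fun c : F =>
      (QuotientGroup.mk (SpecialLinearGroup.transvection (show (0 : Fin 2) ≠ 1 by decide) c) :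
        ProjectiveSpecialLinearGroup (Fin 2) F)) ∪
    {QuotientGroup.mk (Zassenhaus.Moebius.invMat (F := F))}

/-- The translations and the inversion generate `PSL₂(F)`. -/
theorem closure_pslGens : Subgroup.closure (pslGens F) = ⊤ := by
  set R := pslGens F with hR
  have htop : (Subgroup.closure R).comap (QuotientGroup.mk' _) = (⊤ : Subgroup (SpecialLinearGroup (Fin 2) F)) := by
    have hJ : (QuotientGroup.mk (Zassenhaus.Moebius.invMat (F := F)) : ProjectiveSpecialLinearGroup (Fin 2) F) ∈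
        Subgroup.closure R := Subgroup.subset_closure (by rw [hR]; exact Or.inr rfl)
    have hT : ∀ c : F, (QuotientGroup.mk (SpecialLinearGroup.transvection (show (0 : Fin 2) ≠ 1 by decide) c) :
        ProjectiveSpecialLinearGroup (Fin 2) F) ∈ Subgroup.closure R :=
      fun c => Subgroup.subset_closure (by rw [hR]; exact Or.inl ⟨c, rfl⟩)
    refine Cfsg.Agent.Lib.Linear.sl_eq_top_of_transvection_mem _ fun i j hij c => ?_
    rw [Subgroup.mem_comap]
    fin_cases i <;> fin_cases j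
    · exact absurd rfl hij
    · exact hT c
    · have e : SpecialLinearGroup.transvection hij c =
          Zassenhaus.Moebius.invMat * SpecialLinearGroup.transvection (show (0 : Fin 2) ≠ 1 by decide) (-c) *
            Zassenhaus.Moebius.invMat⁻¹ := by
        rw [eq_mul_inv_iff_mul_eq]
        refine Subtype.ext ?_
        change (SpecialLinearGroup.transvection hij c : Matrix (Fin 2) (Fin 2) F) * !![0, -1; 1, 0] =
          !![0, -1; 1, 0] *
            (SpecialLinearGroup.transvection (show (0 : Fin 2) ≠ 1 by decide) (-c) : Matrix (Fin 2) (Fin 2) F)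
        ext k l
        fin_cases k <;> fin_cases l <;>
          simp [SpecialLinearGroup.transvection_coe, Matrix.mul_apply, Matrix.single, Fin.sum_univ_two]
      rw [e, map_mul, map_mul, map_inv]
      exact mul_mem (mul_mem hJ (hT _)) (inv_mem hJ)
    · exact absurd rfl hij
  rw [eq_top_iff]
  intro g _
  obtain ⟨h, rfl⟩ := QuotientGroup.mk'_surjective _ g
  have : h ∈ (Subgroup.closure R).comap (QuotientGroup.mk' _) := htop ▸ Subgroup.mem_top h
  exact this

/-- A projective transformation fixing `∞` and `0` is a dilatation. -/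
theorem pslHom_diag (g : SpecialLinearGroup (Fin 2) F) (h₁ : Zassenhaus.Moebius.pslHom (QuotientGroup.mk g) ∞ = ∞)
    (h₂ : Zassenhaus.Moebius.pslHom (QuotientGroup.mk g) ((0 : F) : OnePoint F) = ((0 : F) : OnePoint F)) :
    ∃ μ : F, μ ≠ 0 ∧ ∀ x : F, Zassenhaus.Moebius.pslHom (QuotientGroup.mk g) x = ↑(μ * x) := by
  rw [Zassenhaus.Moebius.pslHom_mk, OnePoint.smul_infty_eq_self_iff] at h₁
  rw [Zassenhaus.Moebius.pslHom_mk, OnePoint.smul_some_eq_ite] at h₂
  have hdet := g.2
  rw [det_fin_two] at hdet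
  have h10 : (g : Matrix (Fin 2) (Fin 2) F) 1 0 = 0 := h₁
  rw [h10, mul_zero, sub_zero] at hdet
  have h11 : (g : Matrix (Fin 2) (Fin 2) F) 1 1 ≠ 0 := fun h => by
    rw [h, mul_zero] at hdet; exact zero_ne_one hdet
  have h00 : (g : Matrix (Fin 2) (Fin 2) F) 0 0 ≠ 0 := fun h => by
    rw [h, zero_mul] at hdet; exact zero_ne_one hdet
  simp [SpecialLinearGroup.toGL, h10, h11] at h₂
  refine ⟨(g : Matrix (Fin 2) (Fin 2) F) 0 0 / (g : Matrix (Fin 2) (Fin 2) F) 1 1,
    div_ne_zero h00 h11, fun x => ?_⟩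
  rw [Zassenhaus.Moebius.pslHom_mk, OnePoint.smul_some_eq_ite]
  simp [SpecialLinearGroup.toGL, h10, h11, h₂, div_mul_eq_mul_div]

end PSL

variable {G : Type u} {Ω : Type v} [Group G] [MulAction G Ω] [Finite G] {a : Ω} {t : G} {Q : Subgroup G}

/-- With `|Q| = q`, the non-identity elements of `Q` are the involutions of `G_a`. -/
theorem mem_invs_of_card (hS : Cfsg.IsRankOneSetup G Ω a t Q) (hcard : Nat.card Q = qNum G a) {x : G}
    (hx : x ∈ Q) (hx1 : x ≠ 1) : x ∈ invs G a := by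
  have hsub : insert (1 : G) (invs G a) ⊆ (Q : Set G) := by
    rintro y (rfl | hy)
    · exact Q.one_mem
    · exact involutions_stab_mem_Q hS hy.1 hy.2.2
  have h1 : (1 : G) ∉ invs G a := fun h => h.2.1 rfl
  have heq := Set.eq_of_subset_of_ncard_le hsub (le_of_eq (by
    rw [Set.ncard_insert_of_notMem h1 (Set.toFinite _), ← Nat.card_coe_set_eq, ← Nat.card_coe_set_eq]
    exact hcard)) (Set.toFinite _)
  exact ((heq ▸ hx : x ∈ insert (1 : G) (invs G a))).resolve_left hx1

theorem three_le_qNum (hS : Cfsg.IsRankOneSetup G Ω a t Q) (h2 : TwoRank G) : 3 ≤ qNum G a := by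
  obtain ⟨s, s', hs, hs', hne⟩ := RankOne.Nilpotent.exists_two_involutions hS h2
  have h : ({s, s'} : Set G).ncard ≤ (invs G a).ncard :=
    Set.ncard_le_ncard (Set.pair_subset hs hs') (Set.toFinite _)
  rw [Set.ncard_pair hne, ← Nat.card_coe_set_eq] at h
  show 3 ≤ Nat.card (invs G a) + 1
  omega

/-- §4 of the plan: the linear case. -/
theorem linear_case : PropLinear.{u, v} := by
  classical
  intro G Ω _ _ _ a t Q hyp hcard
  obtain ⟨hS, hfaith, h2⟩ := hyp
  haveI := hfaith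
  have hinv : ∀ x ∈ Q, x ≠ 1 → x ∈ invs G a := fun x hx h => mem_invs_of_card hS hcard hx h
  have hsq : ∀ x : Q, x * x = 1 := fun x => by
    by_cases hx : (x : G) = 1
    · exact Subtype.ext (by simp [hx])
    · exact Subtype.ext (hinv x x.2 hx).2.2
  have hQ2 : IsPGroup 2 Q := fun x => ⟨1, by rw [pow_one, sq, hsq]⟩
  haveI : Fact (Nat.Prime 2) := ⟨Nat.prime_two⟩
  obtain ⟨n, hn⟩ := IsPGroup.iff_card.1 hQ2
  have h3 := three_le_qNum hS h2
  have hn2 : 2 ≤ n := by
    by_contra h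
    have : 2 ^ n ≤ 2 ^ 1 := Nat.pow_le_pow_right two_pos (by omega)
    omega
  -- the field
  obtain ⟨C, hC, hCcyc, -⟩ := FTDeps.RankOneCore.inverted_cyclic hS h2
    (fun X _ _ h => OddOrder.FeitThompson.isSolvable_of_odd_card (G := X) h)
  have hmemC : ∀ {k : G}, k ∈ C ↔ k ∈ kSet a t := fun {k} => Iff.of_eq (congrFun hC k)
  have hCn : C ≤ Subgroup.normalizer (Q : Set G) := fun k hk => by
    have hkD := (hmemC.1 hk).1
    refine Subgroup.mem_normalizer_iff.2 fun x => ⟨fun hx => twoStab_norm hS hkD hx, fun hx => ?_⟩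
    simpa [mul_assoc] using twoStab_norm' hS hkD hx
  let cj : C →* MulAut Q :=
    { toFun := fun k =>
        { toFun := conjQ hS (hmemC.1 k.2).1
          invFun := conjQ hS ((twoStab G a t).inv_mem (hmemC.1 k.2).1)
          left_inv := fun x => Subtype.ext (by simp [conjQ_coe, mul_assoc])
          right_inv := fun x => Subtype.ext (by simp [conjQ_coe, mul_assoc])
          map_mul' := fun x y => Subtype.ext (by simp [conjQ_coe, mul_assoc]) }
      map_one' := MulEquiv.ext fun x => Subtype.ext (by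
        show (1 : G) * x * (1 : G)⁻¹ = x
        simp)
      map_mul' := fun k l => MulEquiv.ext fun x => Subtype.ext (by
        show ((k * l : C) : G) * x * ((k * l : C) : G)⁻¹ = k * ((l : G) * x * (l : G)⁻¹) * (k : G)⁻¹
        simp [mul_assoc]) }
  obtain ⟨⟨s, r⟩, ⟨hs, hr, hsr⟩, -⟩ := structure_equation hS
  have hsQ := involutions_stab_mem_Q hS hs.1 hs.2.2
  let s₀ : Q := ⟨s, hsQ⟩
  let r₀ : Q := ⟨r⁻¹, Q.inv_mem hr⟩
  have hs₀ : s₀ ≠ 1 := fun h => hs.2.1 (congrArg Subtype.val h)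
  have hfs : fmap hS s₀ = r₀ := fmap_involution hS hs hr hsQ hsr
  have hr₀ : r₀ ≠ 1 := hfs ▸ fmap_ne_one hS hs₀
  obtain ⟨ι, hιb, hιadd, hι0, hιs, hιmul⟩ := Suzuki2.FieldModel.field_model (A := Q) (n := n)
    (by omega) hn hsq cj.range (fun k hk l hl => by
      obtain ⟨k, rfl⟩ := hk
      obtain ⟨l, rfl⟩ := hl
      haveI := hCcyc
      haveI := IsCyclic.isMulCommutative (α := C)
      rw [← map_mul, ← map_mul, mul_comm']) (fun x y hx hy => by
      obtain ⟨k, ⟨hk, hkx⟩, -⟩ := existsUnique_K hS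
        (hinv x x.2 fun h => hx (Subtype.ext h)) (hinv y y.2 fun h => hy (Subtype.ext h))
      exact ⟨cj ⟨k, hmemC.2 hk⟩, ⟨_, rfl⟩, Subtype.ext hkx⟩) hs₀
  haveI : Fintype (GaloisField 2 n) := Fintype.ofFinite _
  set c := ι r₀ with hc
  have hιne : ∀ {x : Q}, x ≠ 1 → ι x ≠ 0 := fun {x} hx h => hx (hιb.1 (h.trans hι0.symm))
  have hconj : ∀ (k : G) (hk : k ∈ kSet a t) (x : Q),
      ι (conjQ hS hk.1 x) = ι (conjQ hS hk.1 s₀) * ι x := fun k hk x =>
    hιmul _ ⟨⟨k, hmemC.2 hk⟩, rfl⟩ x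
  have hf : ∀ x : Q, x ≠ 1 → ι (fmap hS x) * ι x = c := by
    intro x hx
    obtain ⟨k, ⟨hk, hkx⟩, -⟩ := existsUnique_K hS hs (hinv x x.2 fun h => hx (Subtype.ext h))
    have hx' : x = conjQ hS hk.1 s₀ := Subtype.ext hkx.symm
    have htk : t * k * t = k⁻¹ := ((mem_invertedBy_iff hS).1 hk).2
    have hki := invertedBy_inv hS hk
    have h1 : ι (conjQ hS hki.1 s₀) * ι x = 1 := by
      rw [hx', ← hconj k⁻¹ hki (conjQ hS hk.1 s₀), ← hιs]
      exact congrArg ι (Subtype.ext (by simp [conjQ_coe, mul_assoc]))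
    have h2' : fmap hS x = conjQ hS hki.1 r₀ := by
      rw [hx', fmap_conjQ, hfs]
      exact Subtype.ext (by rw [conjQ_coe, conjQ_coe, htk])
    rw [h2', hconj k⁻¹ hki r₀, mul_right_comm, h1, one_mul]
  -- rescale
  haveI : CharP (GaloisField 2 n) 2 := inferInstance
  obtain ⟨ν, hν⟩ : ∃ ν : GaloisField 2 n, ν * ν * c = 1 := by
    obtain ⟨ν, hν⟩ := (FiniteField.isSquare_of_char_two (ringChar.eq (GaloisField 2 n) 2) c⁻¹)
    exact ⟨ν, by rw [← hν, inv_mul_cancel₀ (hιne hr₀)]⟩
  have hν0 : ν ≠ 0 := fun h => by simp [h] at hν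
  let e₀ : Q ≃ GaloisField 2 n := (Equiv.ofBijective ι hιb).trans (Equiv.mulLeft₀ ν hν0)
  have he₀ : ∀ x, e₀ x = ν * ι x := fun x => rfl
  let E : Ω ≃ OnePoint (GaloisField 2 n) := (pointEquiv hS).symm.trans (Equiv.optionCongr e₀)
  have hEa : E a = ∞ := by
    show Equiv.optionCongr e₀ ((pointEquiv hS).symm a) = ∞
    rw [show (pointEquiv hS).symm a = none from
      (pointEquiv hS).symm_apply_eq.2 (pointEquiv_none hS).symm]
    rfl
  have hEx : ∀ x : Q, E ((x : G) • (t • a)) = ↑(e₀ x) := fun x => by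
    show Equiv.optionCongr e₀ ((pointEquiv hS).symm ((x : G) • (t • a))) = _
    rw [show (pointEquiv hS).symm ((x : G) • (t • a)) = some x from
      (pointEquiv hS).symm_apply_eq.2 (pointEquiv_some hS x).symm]
    rfl
  have hEb : E (t • a) = ((0 : GaloisField 2 n) : OnePoint (GaloisField 2 n)) := by
    have := hEx 1
    rw [Subgroup.coe_one, one_smul, he₀, hι0, mul_zero] at this
    exact this
  have hcases : ∀ p : Ω, p = a ∨ ∃ x : Q, p = (x : G) • (t • a) := fun p => by
    obtain ⟨o, rfl⟩ := (pointEquiv hS).surjective p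
    cases o with
    | none => exact Or.inl rfl
    | some x => exact Or.inr ⟨x, rfl⟩
  let ψ : G →* Equiv.Perm Ω := MulAction.toPermHom G Ω
  have hψ : Function.Injective ψ := MulAction.toPerm_injective
  have hT : ∀ x : Q, ∀ p, E (ψ x p) = Zassenhaus.Moebius.pslHom (QuotientGroup.mk
      (Matrix.SpecialLinearGroup.transvection (show (0 : Fin 2) ≠ 1 by decide) (e₀ x))) (E p) := by
    intro x p
    obtain ⟨h1, h2'⟩ := Zassenhaus.Moebius.pslHom_transvection (e₀ x)
    show E ((x : G) • p) = _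
    rcases hcases p with rfl | ⟨y, rfl⟩
    · rw [Q_fix hS x.2, hEa, h1]
    · rw [← mul_smul, ← Subgroup.coe_mul, hEx, hEx, h2', he₀, he₀, he₀, hιadd, mul_add, add_comm]
  have hW : ∀ p, E (ψ t p) = Zassenhaus.Moebius.pslHom (QuotientGroup.mk
      (Zassenhaus.Moebius.invMat (F := GaloisField 2 n))) (E p) := by
    intro p
    obtain ⟨h1, h2', h3'⟩ := Zassenhaus.Moebius.pslHom_invMat (F := GaloisField 2 n)
    show E (t • p) = _
    rcases hcases p with rfl | ⟨y, rfl⟩
    · rw [hEb, hEa, h1]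
    · by_cases hy : y = 1
      · subst hy
        rw [Subgroup.coe_one, one_smul, tt_smul hS, hEa, hEb, h2']
      · rw [← fmap_spec hS hy, hEx, hEx, h3' (e₀ y) (mul_ne_zero hν0 (hιne hy)), CharTwo.neg_eq]
        congr 1
        refine eq_inv_of_mul_eq_one_left ?_
        rw [he₀, he₀]
        linear_combination (ν * ν) * hf y hy + hν
  let R : Set (Matrix.ProjectiveSpecialLinearGroup (Fin 2) (GaloisField 2 n)) := pslGens (GaloisField 2 n)
  have hR : Subgroup.closure R = ⊤ := closure_pslGens (F := GaloisField 2 n)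
  have h₁ : ∀ g ∈ ((Q : Set G) ∪ {t}), ∃ m ∈ R, ∀ p, E (ψ g p) = Zassenhaus.Moebius.pslHom m (E p) := by
    rintro g (hg | hg)
    · exact ⟨_, Or.inl ⟨_, rfl⟩, hT ⟨g, hg⟩⟩
    · obtain rfl := Set.mem_singleton_iff.1 hg
      exact ⟨_, Or.inr rfl, hW⟩
  have h₂ : ∀ m ∈ R, ∃ g ∈ ((Q : Set G) ∪ {t}), ∀ p, E (ψ g p) = Zassenhaus.Moebius.pslHom m (E p) := by
    rintro m (⟨d, rfl⟩ | hm)
    · refine ⟨(e₀.symm d : G), Or.inl (e₀.symm d).2, fun p => ?_⟩
      have := hT (e₀.symm d) p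
      rwa [e₀.apply_symm_apply] at this
    · obtain rfl := Set.mem_singleton_iff.1 hm
      exact ⟨t, Or.inr rfl, hW⟩
  obtain ⟨iso⟩ := nonempty_equiv_range ψ hψ Zassenhaus.Moebius.pslHom E _ R hR h₁ h₂
  have hq : qNum G a = 2 ^ n := hcard.symm.trans hn
  refine ⟨hQ2, rankOneCore hS, core_normal hS, core_index_odd hS, Q_le_core hS, t_mem_core hS,
    Or.inl ⟨hcard, ?_, GaloisField 2 n, inferInstance, inferInstance, ?_, ⟨n, hn2, hq⟩, ?_⟩⟩
  · ext l
    refine ⟨fun hl => ?_, fun hl => ⟨inverted_mem_core hS hl, hl.1⟩⟩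
    obtain ⟨hl1, hl2⟩ := hl
    obtain ⟨m, hm⟩ := exists_intertwined ψ Zassenhaus.Moebius.pslHom E _ R hR h₁ h₂ hl1
    obtain ⟨g, rfl⟩ := QuotientGroup.mk'_surjective _ m
    have hla : l • a = a := (mem_twoStab.1 hl2).1
    have hlb : l • (t • a) = t • a := (mem_twoStab.1 hl2).2
    have e1 := hm a
    have e2 := hm (t • a)
    change E (l • a) = _ at e1
    change E (l • t • a) = _ at e2
    rw [hla, hEa] at e1
    rw [hlb, hEb] at e2
    obtain ⟨μ, hμ0, hμ⟩ := pslHom_diag g e1.symm e2.symm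
    obtain ⟨x₁, hx₁⟩ := hιb.2 μ
    have hx₁1 : x₁ ≠ 1 := fun h => hμ0 (by rw [← hx₁, h, hι0])
    obtain ⟨k, ⟨hk, hkx⟩, -⟩ := existsUnique_K hS hs (hinv x₁ x₁.2 fun h => hx₁1 (Subtype.ext h))
    have hkμ : ι (conjQ hS hk.1 s₀) = μ := hx₁ ▸ congrArg ι (Subtype.ext hkx)
    have hlk : l = k := by
      refine FaithfulSMul.eq_of_smul_eq_smul (α := Ω) fun p => ?_
      rcases hcases p with rfl | ⟨y, rfl⟩
      · rw [hla, (mem_twoStab.1 hk.1).1]
      · apply E.injective
        have e3 : E (l • (y : G) • t • a) = ↑(μ * (ν * ι y)) := by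
          have := hm ((y : G) • t • a)
          rw [hEx, he₀] at this
          exact this.trans (hμ _)
        rw [e3, ← conjQ_smul hS hk.1, hEx, he₀, hconj k hk, hkμ, mul_left_comm]
    exact hlk ▸ hk
  · rw [hq, ← Nat.card_eq_fintype_card, GaloisField.card 2 n (by omega)]
  · exact ⟨iso.trans (MonoidHom.ofInjective Zassenhaus.Moebius.pslHom_injective).symm⟩

end Cfsg.Agent.Lib.RankOneIdent
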