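import Cfsg.Agent.Lib.RankOne.Basic

/-!
# The split rank-one set-up as a permutation group of `{∞} ∪ Q`

The subgroup `rankOneCore` generated by `Q` and `t` is normal of odd index, and as a permutation group it is
determined by `Q` and the map `fmap`, where `t` sends the point `x • b` to `fmap x • b` (`b = t • a`).
-/

set_option autoImplicit false
set_option linter.unusedSectionVars false

namespace Cfsg.Agent.Lib.RankOneIdent

open Cfsg.Agent.Lib.RankOne.Involution Cfsg.Agent.Lib.RankOne.Basic MulAction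

variable {G Ω : Type*} [Group G] [MulAction G Ω] {a : Ω} {t : G} {Q : Subgroup G}
  (hS : Cfsg.IsRankOneSetup G Ω a t Q)
include hS

theorem b_ne : t • a ≠ a := t_smul_ne hS

theorem Q_smul_b_ne {x : G} (hx : x ∈ Q) : x • (t • a) ≠ a := fun h =>
  b_ne hS (smul_left_cancel x (h.trans (Q_fix hS hx).symm))

theorem Q_smul_b_eq_b {x : G} (hx : x ∈ Q) (h : x • (t • a) = t • a) : x = 1 :=
  Q_free hS hx (b_ne hS) h

open Classical in
/-- The points: `none` is `a` and `some x` is `x • b`. -/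
noncomputable def pointEquiv : Option Q ≃ Ω :=
  Equiv.ofBijective (fun o => o.elim a fun x => (x : G) • (t • a))
    ⟨fun o o' h => by
      rcases o with _ | x <;> rcases o' with _ | y
      · rfl
      · exact absurd h.symm (Q_smul_b_ne hS y.2)
      · exact absurd h (Q_smul_b_ne hS x.2)
      · exact congrArg some (Subtype.ext (Q_smul_inj hS x.2 y.2 (b_ne hS) h)),
    fun c => by
      by_cases hc : c = a
      · exact ⟨none, hc.symm⟩
      · obtain ⟨x, hx, h⟩ := Q_trans hS (b_ne hS) hc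
        exact ⟨some ⟨x, hx⟩, h⟩⟩

theorem pointEquiv_none : pointEquiv hS none = a := rfl

theorem pointEquiv_some (x : Q) : pointEquiv hS (some x) = (x : G) • (t • a) := rfl

theorem exists_fmap (x : Q) : ∃ y : Q, (y : G) • (t • a) = t • ((x : G) • (t • a)) ∨ (x = 1 ∧ y = 1) := by
  by_cases hx : x = 1
  · exact ⟨1, Or.inr ⟨hx, rfl⟩⟩
  have hne : t • ((x : G) • (t • a)) ≠ a := fun h => hx (Subtype.ext (Q_smul_b_eq_b hS x.2 (by
    rw [← tt_smul hS ((x : G) • (t • a)), h])))
  obtain ⟨y, hy, h⟩ := Q_trans hS (b_ne hS) hne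
  exact ⟨⟨y, hy⟩, Or.inl h⟩

/-- The action of `t` on `Q`. -/
noncomputable def fmap (x : Q) : Q := (exists_fmap hS x).choose

theorem fmap_spec {x : Q} (hx : x ≠ 1) :
    (fmap hS x : G) • (t • a) = t • ((x : G) • (t • a)) :=
  ((exists_fmap hS x).choose_spec).resolve_right fun h => hx h.1

theorem fmap_one : fmap hS 1 = 1 := by
  obtain h | h := (exists_fmap hS 1).choose_spec
  · have h' : (fmap hS 1 : G) • (t • a) = a := by
      refine h.trans ?_
      simp only [Subgroup.coe_one, one_smul, tt_smul hS]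
    exact absurd h' (Q_smul_b_ne hS (fmap hS 1).2)
  · exact h.2

theorem fmap_eq_of_smul {x y : Q} (hx : x ≠ 1)
    (h : (y : G) • (t • a) = t • ((x : G) • (t • a))) : fmap hS x = y :=
  Subtype.ext (Q_smul_inj hS (fmap hS x).2 y.2 (b_ne hS) ((fmap_spec hS hx).trans h.symm))

theorem fmap_ne_one {x : Q} (hx : x ≠ 1) : fmap hS x ≠ 1 := by
  intro h
  have h' := fmap_spec hS hx
  rw [h, Subgroup.coe_one, one_smul] at h'
  exact Q_smul_b_ne hS x.2 (smul_left_cancel t h'.symm)

theorem fmap_fmap (x : Q) : fmap hS (fmap hS x) = x := by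
  by_cases hx : x = 1
  · subst hx; rw [fmap_one, fmap_one]
  · exact fmap_eq_of_smul hS (fmap_ne_one hS hx) (by rw [fmap_spec hS hx, tt_smul hS])

/-- Conjugation of `Q` by an element of the two-point stabiliser. -/
def conjQ {d : G} (hd : d ∈ twoStab G a t) (x : Q) : Q := ⟨d * x * d⁻¹, twoStab_norm hS hd x.2⟩

theorem conjQ_coe {d : G} (hd : d ∈ twoStab G a t) (x : Q) :
    (conjQ hS hd x : G) = d * x * d⁻¹ := rfl

theorem conjQ_ne_one {d : G} (hd : d ∈ twoStab G a t) {x : Q} (hx : x ≠ 1) :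
    conjQ hS hd x ≠ 1 := fun h => hx (Subtype.ext (conj_eq_one_iff.1 (congrArg Subtype.val h)))

theorem conjQ_smul {d : G} (hd : d ∈ twoStab G a t) (x : Q) :
    (conjQ hS hd x : G) • (t • a) = d • ((x : G) • (t • a)) := by
  rw [conjQ_coe, mul_smul, mul_smul, inv_smul_eq_iff.2 (mem_twoStab.1 hd).2.symm]

theorem fmap_conjQ {d : G} (hd : d ∈ twoStab G a t) (x : Q) :
    fmap hS (conjQ hS hd x) = conjQ hS (t_conj_mem hS hd) (fmap hS x) := by
  by_cases hx : x = 1
  · subst hx
    have h1 : ∀ {e : G} (he : e ∈ twoStab G a t), conjQ hS he 1 = 1 := fun he =>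
      Subtype.ext (by simp [conjQ_coe])
    rw [h1, fmap_one, h1]
  refine fmap_eq_of_smul hS (conjQ_ne_one hS hd hx) ?_
  rw [conjQ_smul, conjQ_smul, fmap_spec hS hx, mul_smul, mul_smul, tt_smul hS]

/-- The images of the involutions of `G_a`. -/
theorem fmap_involution {s r : G} (hs : s ∈ Cfsg.involutionsIn (stabilizer G a : Set G)) (hr : r ∈ Q)
    (hsQ : s ∈ Q) (h : t * s * t = r⁻¹ * t * r) :
    fmap hS ⟨s, hsQ⟩ = ⟨r⁻¹, Q.inv_mem hr⟩ := by
  refine fmap_eq_of_smul hS (fun h' => hs.2.1 (congrArg Subtype.val h')) ?_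
  have h' := congrArg (fun g : G => g • a) h
  simp only [mul_smul, Q_fix hS hr] at h'
  exact h'.symm

/-- The subgroup generated by `Q` and `t`. -/
def rankOneCore (_hS : Cfsg.IsRankOneSetup G Ω a t Q) : Subgroup G :=
  Subgroup.closure ((Q : Set G) ∪ {t})

theorem Q_le_core : Q ≤ rankOneCore hS := fun _ hx => Subgroup.subset_closure (Or.inl hx)

theorem t_mem_core : t ∈ rankOneCore hS := Subgroup.subset_closure (Or.inr rfl)

variable [Finite G]

theorem inverted_mem_core {k : G} (hk : k ∈ Cfsg.invertedBy (twoStab G a t) t) :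
    k ∈ rankOneCore hS := by
  obtain ⟨⟨s, r⟩, ⟨hs, hr, h⟩, -⟩ := structure_equation hS
  have hss := involutions_stab_mem_Q hS hs.1 hs.2.2
  have hsq : k * k ∈ rankOneCore hS := by
    have hka := invertedBy_inv hS hk
    have h1 : t * (k * s * k⁻¹) * t = (k⁻¹ * r * k)⁻¹ * (t * (k * k)) * (k⁻¹ * r * k) := by
      have h2 := t_mul_inverted hS hk
      have h3 : k * t = t * k⁻¹ := by
        have := t_mul_inverted hS hka; rw [inv_inv] at this; exact this.symm
      calc t * (k * s * k⁻¹) * t = (t * k) * s * (k⁻¹ * t) := by group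
        _ = (k⁻¹ * t) * s * (t * k) := by rw [← h2]
        _ = k⁻¹ * (t * s * t) * k := by group
        _ = k⁻¹ * (r⁻¹ * t * r) * k := by rw [h]
        _ = (k⁻¹ * r * k)⁻¹ * (k⁻¹ * t * k) * (k⁻¹ * r * k) := by group
        _ = _ := by rw [← h2]; group
    have h4 : t * (k * k) = (k⁻¹ * r * k) * (t * (k * s * k⁻¹) * t) * (k⁻¹ * r * k)⁻¹ := by
      rw [h1]; group
    have hm : t * (k * k) ∈ rankOneCore hS := by
      have hrk : k⁻¹ * r * k ∈ rankOneCore hS := Q_le_core hS (twoStab_norm' hS hk.1 hr)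
      rw [h4]
      exact mul_mem (mul_mem hrk (mul_mem (mul_mem (t_mem_core hS)
        (Q_le_core hS (twoStab_norm hS hk.1 hss))) (t_mem_core hS))) (inv_mem hrk)
    simpa [tt_mul hS] using mul_mem (t_mem_core hS) hm
  obtain ⟨m, hm⟩ : Odd (Nat.card ↥(twoStab G a t)) := hS.odd_card
  have hk' : k = (k * k) ^ (m + 1) := by
    rw [← sq, ← pow_mul, show 2 * (m + 1) = Nat.card ↥(twoStab G a t) + 1 by omega, pow_succ,
      pow_card_eq_one_mem hk.1, one_mul]
  rw [hk']
  exact pow_mem hsq _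

theorem exists_core_mul_centralizer (g : G) :
    ∃ l ∈ rankOneCore hS, ∃ c ∈ twoStab G a t, t * c * t⁻¹ = c ∧ g = l * c := by
  have hstab : ∀ h : G, h • a = a →
      ∃ l ∈ rankOneCore hS, ∃ c ∈ twoStab G a t, t * c * t⁻¹ = c ∧ h = l * c := by
    intro h hh
    obtain ⟨q, hq, d, hd, rfl⟩ := exists_Q_D hS hh
    obtain ⟨c, hc, k, hk, hct, rfl⟩ := exists_CK hS hd
    refine ⟨q * (c * k * c⁻¹), mul_mem (Q_le_core hS hq) (inverted_mem_core hS ⟨?_, ?_⟩), c, hc,
      hct, by group⟩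
    · exact mul_mem (mul_mem hc hk.1) (inv_mem hc)
    · calc t * (c * k * c⁻¹) * t⁻¹ = (t * c * t⁻¹) * (t * k * t⁻¹) * (t * c * t⁻¹)⁻¹ := by group
        _ = _ := by rw [hct, hk.2]; group
  by_cases hg : g • a = a
  · exact hstab g hg
  · obtain ⟨x, hx, h⟩ := Q_trans hS (b_ne hS) hg
    obtain ⟨l, hl, c, hc, hct, he⟩ := hstab ((x * t)⁻¹ * g) (by
      rw [mul_smul, inv_smul_eq_iff, mul_smul, h])
    exact ⟨x * t * l, mul_mem (mul_mem (Q_le_core hS hx) (t_mem_core hS)) hl, c, hc, hct,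
      by rw [mul_assoc (x * t), ← he, mul_inv_cancel_left]⟩

theorem conj_core_of_centralizer {c : G} (hc : c ∈ twoStab G a t) (hct : t * c * t⁻¹ = c)
    {l : G} (hl : l ∈ rankOneCore hS) : c * l * c⁻¹ ∈ rankOneCore hS := by
  induction hl using Subgroup.closure_induction with
  | mem x hx =>
    rcases hx with hx | hx
    · exact Q_le_core hS (twoStab_norm hS hc hx)
    · rw [Set.mem_singleton_iff.1 hx, ← mul_inv_eq_iff_eq_mul.1 hct, mul_inv_cancel_right]
      exact t_mem_core hS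
  | one => simp
  | mul x y _ _ ihx ihy =>
    rw [show c * (x * y) * c⁻¹ = (c * x * c⁻¹) * (c * y * c⁻¹) by group]
    exact mul_mem ihx ihy
  | inv x _ ih =>
    rw [show c * x⁻¹ * c⁻¹ = (c * x * c⁻¹)⁻¹ by group]
    exact inv_mem ih

theorem core_normal : (rankOneCore hS).Normal := by
  constructor
  intro l hl g
  obtain ⟨m, hm, c, hc, hct, rfl⟩ := exists_core_mul_centralizer hS g
  rw [show m * c * l * (m * c)⁻¹ = m * (c * l * c⁻¹) * m⁻¹ by group]
  exact mul_mem (mul_mem hm (conj_core_of_centralizer hS hc hct hl)) (inv_mem hm)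

theorem core_index_odd : Odd (rankOneCore hS).index := by
  have := core_normal hS
  have hsurj : Function.Surjective
      ((QuotientGroup.mk' (rankOneCore hS)).comp (twoStab G a t).subtype) := by
    intro y
    obtain ⟨g, rfl⟩ := QuotientGroup.mk'_surjective (rankOneCore hS) y
    obtain ⟨l, hl, c, hc, -, rfl⟩ := exists_core_mul_centralizer hS g
    refine ⟨⟨c, hc⟩, ?_⟩
    rw [MonoidHom.comp_apply, Subgroup.coe_subtype, map_mul,
      show QuotientGroup.mk' (rankOneCore hS) l = 1 from (QuotientGroup.eq_one_iff l).2 hl, one_mul]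
  exact Odd.of_dvd_nat hS.odd_card (Subgroup.card_dvd_of_surjective _ hsurj)

omit hS [Finite G] in
/-- The images of a generated subgroup under intertwined permutation representations. -/
theorem map_closure_eq_range {X Y M : Type*} [Group M] (ψ : G →* Equiv.Perm X)
    (φ : M →* Equiv.Perm Y) (e : X ≃ Y) (S : Set G) (R : Set M)
    (hR : Subgroup.closure R = ⊤) (h₁ : ∀ s ∈ S, ∃ r ∈ R, ∀ x, e (ψ s x) = φ r (e x))
    (h₂ : ∀ r ∈ R, ∃ s ∈ S, ∀ x, e (ψ s x) = φ r (e x)) :
    (Subgroup.closure S).map ((e.permCongrHom : Equiv.Perm X →* Equiv.Perm Y).comp ψ) = φ.range := by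
  let c : G →* Equiv.Perm Y := (e.permCongrHom : Equiv.Perm X →* Equiv.Perm Y).comp ψ
  have key : ∀ s r, (∀ x, e (ψ s x) = φ r (e x)) → c s = φ r := fun s r h => by
    ext y
    show e (ψ s (e.symm y)) = φ r y
    rw [h, e.apply_symm_apply]
  have himg : c '' S = φ '' R := by
    ext p
    constructor
    · rintro ⟨s, hs, rfl⟩
      obtain ⟨r, hr, h⟩ := h₁ s hs
      exact ⟨r, hr, (key s r h).symm⟩
    · rintro ⟨r, hr, rfl⟩
      obtain ⟨s, hs, h⟩ := h₂ r hr
      exact ⟨s, hs, key s r h⟩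
  show (Subgroup.closure S).map c = φ.range
  rw [MonoidHom.map_closure, himg, ← MonoidHom.map_closure, hR, MonoidHom.range_eq_map]

omit hS [Finite G] in
/-- Two permutation groups with intertwined generators are isomorphic. -/
theorem nonempty_equiv_range {X Y M : Type*} [Group M] (ψ : G →* Equiv.Perm X)
    (hψ : Function.Injective ψ) (φ : M →* Equiv.Perm Y) (e : X ≃ Y) (S : Set G) (R : Set M)
    (hR : Subgroup.closure R = ⊤) (h₁ : ∀ s ∈ S, ∃ r ∈ R, ∀ x, e (ψ s x) = φ r (e x))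
    (h₂ : ∀ r ∈ R, ∃ s ∈ S, ∀ x, e (ψ s x) = φ r (e x)) :
    Nonempty (Subgroup.closure S ≃* φ.range) :=
  ⟨((Subgroup.closure S).equivMapOfInjective _ (e.permCongrHom.injective.comp hψ)).trans
    (MulEquiv.subgroupCongr (map_closure_eq_range ψ φ e S R hR h₁ h₂))⟩

omit hS [Finite G] in
/-- An element of the generated subgroup is intertwined with some element of the other group. -/
theorem exists_intertwined {X Y M : Type*} [Group M] (ψ : G →* Equiv.Perm X)
    (φ : M →* Equiv.Perm Y) (e : X ≃ Y) (S : Set G) (R : Set M)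
    (hR : Subgroup.closure R = ⊤) (h₁ : ∀ s ∈ S, ∃ r ∈ R, ∀ x, e (ψ s x) = φ r (e x))
    (h₂ : ∀ r ∈ R, ∃ s ∈ S, ∀ x, e (ψ s x) = φ r (e x)) {l : G} (hl : l ∈ Subgroup.closure S) :
    ∃ m : M, ∀ x, e (ψ l x) = φ m (e x) := by
  have h : (e.permCongrHom : Equiv.Perm X →* Equiv.Perm Y).comp ψ l ∈ φ.range :=
    map_closure_eq_range ψ φ e S R hR h₁ h₂ ▸ Subgroup.mem_map_of_mem _ hl
  obtain ⟨m, hm⟩ := h
  refine ⟨m, fun x => ?_⟩
  rw [hm]
  show _ = e (ψ l (e.symm (e x)))
  rw [e.symm_apply_apply]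

end Cfsg.Agent.Lib.RankOneIdent
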